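import Mathlib
import Groth.Prelude.Def_Curv2
import Groth.Agent.H7Lim.NormalizationNormal

/-!
# The normalization of an integral scheme: integrality, normality, surjectivity, birationality
-/

set_option autoImplicit false
set_option linter.style.haveILetI false
universe u
open CategoryTheory CategoryTheory.Limits AlgebraicGeometry TopologicalSpace

namespace Groth.Agent.H11Curve

variable (X : Scheme.{u}) [IsIntegral X]

instance isIntegral_spec_functionField : IsIntegral (Spec (X.presheaf.stalk (genericPoint X))) := by
  haveI : IsDomain (X.presheaf.stalk (genericPoint X)) := inferInstanceAs (IsDomain X.functionField)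
  infer_instance

theorem isIntegrallyClosed_stalk_spec_functionField (x : Spec (X.presheaf.stalk (genericPoint X))) :
    IsIntegrallyClosed ((Spec (X.presheaf.stalk (genericPoint X))).presheaf.stalk x) := by
  haveI hp : x.asIdeal.IsPrime := x.isPrime
  have hF : IsField (X.presheaf.stalk (genericPoint X)) := Field.toIsField X.functionField
  letI : Algebra (X.presheaf.stalk (genericPoint X))
      ((Spec (X.presheaf.stalk (genericPoint X))).presheaf.stalk x) :=
    StructureSheaf.stalkAlgebra _ x
  haveI : IsLocalization.AtPrime ((Spec (X.presheaf.stalk (genericPoint X))).presheaf.stalk x) x.asIdeal :=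
    StructureSheaf.IsLocalization.to_stalk _ x
  haveI : IsDomain (X.presheaf.stalk (genericPoint X)) := inferInstanceAs (IsDomain X.functionField)
  haveI : IsIntegrallyClosed (X.presheaf.stalk (genericPoint X)) := by
    letI := hF.toField
    infer_instance
  exact isIntegrallyClosed_of_isLocalization _ x.asIdeal.primeCompl (Ideal.primeCompl_le_nonZeroDivisors _)

instance isDominant_fromSpecStalk_genericPoint : IsDominant (X.fromSpecStalk (genericPoint X)) := by
  refine ⟨dense_iff_closure_eq.2 (Set.eq_univ_of_univ_subset ?_)⟩
  rw [← (genericPoint_spec X).def]
  exact closure_mono (Set.singleton_subset_iff.2 ⟨_, Scheme.fromSpecStalk_closedPoint⟩)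

variable [QuasiCompact (X.fromSpecStalk (genericPoint X))]
  [QuasiSeparated (X.fromSpecStalk (genericPoint X))]

theorem isIntegral_normalization : IsIntegral (Curv2.normalization X) := by
  delta Curv2.normalization
  infer_instance

theorem isNormal_normalization : Pi1.IsNormalScheme (Curv2.normalization X) := fun y => by
  haveI := isIntegral_normalization X
  exact ⟨inferInstance, H7Lim.isIntegrallyClosed_normalization_stalk
    (isIntegrallyClosed_stalk_spec_functionField X) _ y⟩

theorem surjective_normalizationι : Surjective (Curv2.normalizationι X) := by
  have h1 : IsClosed (Set.range (Curv2.normalizationι X)) :=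
    (X.fromSpecStalk (genericPoint X)).fromNormalization.isClosedMap.isClosed_range
  refine ⟨fun x => ?_⟩
  have h2 : Dense (Set.range (Curv2.normalizationι X)) := by
    refine Dense.mono ?_ (X.fromSpecStalk (genericPoint X)).denseRange
    rintro _ ⟨w, rfl⟩
    refine ⟨(X.fromSpecStalk (genericPoint X)).toNormalization w, ?_⟩
    show ((X.fromSpecStalk (genericPoint X)).toNormalization ≫
      (X.fromSpecStalk (genericPoint X)).fromNormalization) w = _
    rw [Scheme.Hom.toNormalization_fromNormalization]
  have h3 : x ∈ Set.range (Curv2.normalizationι X) := by
    rw [← h1.closure_eq, h2.closure_eq]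
    trivial
  exact h3

/-- The normalization is birational. -/
theorem exists_residueFieldMap_bijective :
    ∃ (_ : IsIntegral (Curv2.normalization X))
      (_ : (Curv2.normalizationι X).base (genericPoint (Curv2.normalization X)) = genericPoint X),
      Function.Bijective ((Curv2.normalizationι X).residueFieldMap (genericPoint (Curv2.normalization X))).hom := by
  haveI := isIntegral_normalization X
  let ν := Curv2.normalizationι X
  let f := X.fromSpecStalk (genericPoint X)
  haveI : IsDominant ν := ⟨(surjective_normalizationι X).surj.denseRange⟩
  have hξ : f.toNormalization (genericPoint (Spec (X.presheaf.stalk (genericPoint X)))) =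
      genericPoint (Curv2.normalization X) := H7Lim.genericPoint_toNormalization f
  refine ⟨inferInstance, H7Lim.genericPoint_of_isDominant ν, ?_⟩
  rw [← hξ]
  let pt := genericPoint (Spec (X.presheaf.stalk (genericPoint X)))
  show Function.Bijective (f.fromNormalization.residueFieldMap (f.toNormalization pt)).hom
  refine ⟨(f.fromNormalization.residueFieldMap (f.toNormalization pt)).hom.injective, fun b => ?_⟩
  have hsurj : Function.Surjective
      ((f.toNormalization ≫ f.fromNormalization).residueFieldMap pt).hom := by
    rw [Scheme.Hom.toNormalization_fromNormalization]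
    intro r
    obtain ⟨r, rfl⟩ := Ideal.Quotient.mk_surjective r
    obtain ⟨s, hs⟩ := f.stalkMap_surjective pt r
    refine ⟨X.residue (f pt) s, ?_⟩
    have := congr($(Scheme.residue_residueFieldMap f pt) s)
    exact this.trans (congrArg ((Spec (X.presheaf.stalk (genericPoint X))).residue pt) hs)
  obtain ⟨a, ha⟩ := hsurj ((f.toNormalization.residueFieldMap pt) b)
  rw [Scheme.residueFieldMap_comp] at ha
  exact ⟨a, (f.toNormalization.residueFieldMap pt).hom.injective ha⟩

end Groth.Agent.H11Curve
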