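import Groth.Agent.S9673
import Groth.Agent.S9674
import Groth.Agent.H12AlgSp.NagataSpace
import Groth.Agent.H12AlgSp.LqfDim
import Groth.Agent.H12AlgSp.Codim
import Groth.Agent.H17.P1Fibre
import Groth.Agent.H22Alg.VarDim
import Groth.Agent.H22Alg.FibreCount
import Groth.Agent.H27Weil.Geometry

/-!
# Complete normal curves with a given function field
-/

set_option autoImplicit false
set_option linter.style.haveILetI false

universe u

open CategoryTheory CategoryTheory.Limits AlgebraicGeometry TopologicalSpace Opposite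

noncomputable section

namespace Groth.Agent.H11Curve

variable (k : Type u) [Field k]

theorem isNagata_field : CAlg.IsNagata k := by
  refine ⟨inferInstance, fun p hp => ?_⟩
  intro L _ _ _ _ hfin
  haveI : p.IsMaximal := ((Ideal.eq_bot_or_top p).resolve_right hp.ne_top) ▸ Ideal.bot_isMaximal
  haveI : Module.Finite (k ⧸ p) (FractionRing (k ⧸ p)) :=
    Module.Finite.of_surjective (Algebra.linearMap (k ⧸ p) (FractionRing (k ⧸ p)))
      (IsFractionRing.surjective_iff_isField.mpr ((Ideal.Quotient.maximal_ideal_iff_isField_quotient p).mp inferInstance))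
  haveI : Module.Finite (k ⧸ p) L := Module.Finite.trans (FractionRing (k ⧸ p)) L
  exact Module.Finite.of_injective (integralClosure (k ⧸ p) L).val.toLinearMap Subtype.val_injective

theorem isNagata_affineOpen_spec_field (A : (Spec (CommRingCat.of k)).Opens) (hA : IsAffineOpen A) :
    CAlg.IsNagata Γ(Spec (CommRingCat.of k), A) :=
  Groth.Agent.H8Props.NagataAffine.isNagata_affineOpen _ (fun _ : PUnit.{u+1} => (⊤ : Scheme.Opens _))
    iSup_const (fun _ => isAffineOpen_top _) A hA fun _ =>
      Groth.Agent.H8Props.NagataAffine.isNagata_of_ringEquiv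
        (Scheme.ΓSpecIso (CommRingCat.of k)).commRingCatIsoToRingEquiv.symm (isNagata_field k)

variable (K : Type u) [Field K]

/-- The stalk of `Spec K` as `K`. -/
def toStalk (x : Spec (CommRingCat.of K)) : K →+* (Spec (CommRingCat.of K)).presheaf.stalk x :=
  ((Scheme.ΓSpecIso (CommRingCat.of K)).inv ≫ (Spec (CommRingCat.of K)).presheaf.germ ⊤ x trivial).hom

theorem eq_top_of_mem {W : (Spec (CommRingCat.of K)).Opens} {x : Spec (CommRingCat.of K)} (hx : x ∈ W) : W = ⊤ :=
  eq_top_iff.mpr fun y _ => Subsingleton.elim x y ▸ hx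

theorem toStalk_bijective (x : Spec (CommRingCat.of K)) : Function.Bijective (toStalk K x) := by
  refine ⟨(toStalk K x).injective, fun s => ?_⟩
  obtain ⟨W, hW, t, rfl⟩ := (Spec (CommRingCat.of K)).presheaf.exists_germ_eq s
  obtain rfl := eq_top_of_mem K hW
  exact ⟨(Scheme.ΓSpecIso (CommRingCat.of K)).hom t, by
    simp only [toStalk, CommRingCat.hom_comp, RingHom.comp_apply]
    exact congrArg _ (ConcreteCategory.congr_hom (Scheme.ΓSpecIso (CommRingCat.of K)).hom_inv_id t)⟩

variable [Algebra k K]

theorem essFiniteType_stalkMap [Algebra.EssFiniteType k K] (x : Spec (CommRingCat.of K)) :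
    ((Spec.map (CommRingCat.ofHom (algebraMap k K))).stalkMap x).hom.EssFiniteType := by
  let c := Spec.map (CommRingCat.ofHom (algebraMap k K))
  have h1 : (toStalk k (c x)).EssFiniteType :=
    (RingHom.FiniteType.of_surjective _ (toStalk_bijective k (c x)).2).essFiniteType
  refine (RingHom.EssFiniteType.comp_iff h1).mp ?_
  have e : (c.stalkMap x).hom.comp (toStalk k (c x)) = (toStalk K x).comp (algebraMap k K) := by
    ext r
    simp only [toStalk, CommRingCat.hom_comp, RingHom.comp_apply]
    erw [Scheme.Hom.germ_stalkMap_apply]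
    exact congrArg _ (ConcreteCategory.congr_hom
      (Scheme.ΓSpecIso_inv_naturality (CommRingCat.ofHom (algebraMap k K))) r).symm
  rw [e]
  exact RingHom.EssFiniteType.comp (RingHom.essFiniteType_algebraMap.mpr inferInstance)
    (RingHom.FiniteType.of_surjective _ (toStalk_bijective K x).2).essFiniteType

theorem germ_stalkMap_of_comp {X : Scheme.{u}} (f : Spec (CommRingCat.of K) ⟶ X) (p : X ⟶ Spec (CommRingCat.of k))
    (hp : f ≫ p = Spec.map (CommRingCat.ofHom (algebraMap k K))) (x : Spec (CommRingCat.of K)) (r : k) :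
    f.stalkMap x (X.presheaf.germ ⊤ (f x) trivial (p.appTop ((Scheme.ΓSpecIso (CommRingCat.of k)).inv r))) =
      toStalk K x (algebraMap k K r) := by
  refine (Scheme.Hom.germ_stalkMap_apply f ⊤ x trivial _).trans ?_
  have h : (Scheme.ΓSpecIso (CommRingCat.of k)).inv ≫ p.appTop ≫ f.appTop =
      CommRingCat.ofHom (algebraMap k K) ≫ (Scheme.ΓSpecIso (CommRingCat.of K)).inv := by
    rw [Scheme.ΓSpecIso_inv_naturality, ← Scheme.Hom.comp_appTop, hp]
  exact congrArg ((Spec (CommRingCat.of K)).presheaf.germ ⊤ x trivial).hom (congr($h r))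

theorem exists_complete_curve (hfg : (⊤ : IntermediateField k K).FG) (htr : Algebra.trdeg k K = 1) :
    ∃ (X : Scheme.{u}) (p : X ⟶ Spec (CommRingCat.of k)) (_ : IsIntegral X), IsProper p ∧ Pi1.IsNormalScheme X ∧
      (∀ x : X, IsClosed ({x} : Set X) → ringKrullDim (X.presheaf.stalk x) = 1) ∧
      ∃ e : X.presheaf.stalk (genericPoint X) ≃+* K,
        ∀ c : k, e (X.presheaf.germ ⊤ (genericPoint X) trivial
          (p.appTop ((Scheme.ΓSpecIso (CommRingCat.of k)).inv c))) = algebraMap k K c := by
  classical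
  haveI : Algebra.EssFiniteType k K := by
    have := IntermediateField.essFiniteType_iff.mpr hfg
    exact Algebra.EssFiniteType.of_surjective (IntermediateField.topEquiv (F := k) (E := K)).toAlgHom
      (IntermediateField.topEquiv (F := k) (E := K)).surjective
  -- a transcendental element
  obtain ⟨s, hs⟩ := exists_isTranscendenceBasis k K
  have hcard : Cardinal.mk s = 1 := by rw [hs.cardinalMk_eq_trdeg, htr]
  obtain ⟨⟨a, ha⟩, huniq⟩ := Cardinal.eq_one_iff_unique.mp hcard |>.2, (Cardinal.eq_one_iff_unique.mp hcard).1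
  let P := CohB1.ProjSpace 1 k
  let σ := Groth.Agent.H17.P1Fibre.σ (0 : Fin (1 + 1))
  haveI hσ : Unique σ := ⟨⟨⟨1, by decide⟩⟩, by rintro ⟨i, hi⟩; ext; fin_cases i <;> first | exact absurd rfl hi | rfl⟩
  let A := MvPolynomial σ k
  let ψ : A →ₐ[k] K := MvPolynomial.aeval fun _ => a
  haveI := huniq
  let t : σ → s := fun _ => ⟨a, ha⟩
  have hbasis : IsTranscendenceBasis k fun _ : σ => a := by
    have e : σ ≃ s := ⟨t, fun _ => default, fun _ => Subsingleton.elim _ _, fun _ => Subsingleton.elim _ _⟩
    convert hs.comp_equiv e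
    exact congrArg Subtype.val (Subsingleton.elim (⟨a, ha⟩ : s) _)
  have hψ : Function.Injective ψ := hbasis.1
  have halg : ∀ b : K, ∃ c : A, c ≠ 0 ∧ ψ.toRingHom.IsIntegralElem (ψ c * b) := fun b => by
    letI := ψ.toRingHom.toAlgebra
    have hb : IsAlgebraic A b := by
      haveI := hbasis.isAlgebraic
      obtain ⟨q, hq0, hq⟩ := Algebra.IsAlgebraic.isAlgebraic (R := Algebra.adjoin k (Set.range fun _ : σ => a)) b
      let θ := (hbasis.1.aevalEquiv).symm.toRingEquiv
      refine ⟨q.map θ.toRingHom, (Polynomial.map_ne_zero_iff θ.injective).mpr hq0, ?_⟩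
      have hθ : (algebraMap A K).comp θ.toRingHom = algebraMap _ K := RingHom.ext fun y =>
        congrArg Subtype.val (hbasis.1.aevalEquiv.apply_symm_apply y)
      rw [Polynomial.aeval_def, Polynomial.eval₂_map, hθ, ← Polynomial.aeval_def]
      exact hq
    obtain ⟨c, hc, hint⟩ := hb.exists_integral_multiple
    exact ⟨c, hc, by rwa [Algebra.smul_def] at hint⟩
  -- the morphism to the projective line
  let c := Spec.map (CommRingCat.ofHom ψ.toRingHom)
  let j : Spec (CommRingCat.of A) ⟶ P := Groth.Agent.H17.P1Fibre.chart k 0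
  haveI : IsOpenImmersion j := by
    haveI := Groth.Agent.H17.P1Fibre.isIso_chartInv k (0 : Fin (1 + 1))
    exact MorphismProperty.comp_mem _ _ _ (inferInstance : IsOpenImmersion _)
      (Proj.instIsOpenImmersionAwayι (CohB1.polyGrading 1 k) _ _ _)
  let g := c ≫ j
  let π := CohB1.ProjSpace.toSpec 1 k
  have hgπ : g ≫ π = Spec.map (CommRingCat.ofHom (algebraMap k K)) := by
    rw [Category.assoc, Groth.Agent.H17.P1Fibre.chart_toSpec, ← Spec.map_comp, ← CommRingCat.ofHom_comp]
    congr 2
    exact ψ.comp_algebraMap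
  haveI : IsProper π := inferInstance
  haveI : QuasiCompact g := (inferInstance : QuasiCompact (c ≫ j))
  haveI : QuasiSeparated g := (inferInstance : QuasiSeparated (c ≫ j))
  have hlf : LocallyFinite (fun Z : ↥(irreducibleComponents ↥(Spec (CommRingCat.of K))) =>
      (Z : Set ↥(Spec (CommRingCat.of K)))) := by
    haveI : Finite ↥(irreducibleComponents ↥(Spec (CommRingCat.of K))) :=
      (TopologicalSpace.NoetherianSpace.finite_irreducibleComponents).to_subtype
    exact locallyFinite_of_finite _
  have hNag : ∀ U : P.affineOpens, CAlg.IsNagata Γ(P, U) := fun U =>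
    Groth.Agent.H12AlgSp.isNagata_affineOpens_of_lft π (isNagata_affineOpen_spec_field k) U.1 U.2
  haveI hfinite : IsFinite g.fromNormalization := by
    refine Groth.Agent.S9674.result g hNag hlf fun x _ => ?_
    have h := RingHom.EssFiniteType.residueFieldMap (essFiniteType_stalkMap k K x)
    have h' : ((g ≫ π).residueFieldMap x).hom.EssFiniteType := by
      rw [hgπ]
      exact h
    rw [Scheme.residueFieldMap_comp] at h'
    exact (RingHom.EssFiniteType.comp_iff
      (RingHom.EssFiniteType.residueFieldMap (LocallyOfFiniteType.stalkMap π (g x)))).mp h'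
  have hY : Pi1.IsNormalScheme (Spec (CommRingCat.of K)) := fun y => by
    let e := RingEquiv.ofBijective (toStalk K y) (toStalk_bijective K y)
    exact ⟨e.symm.toMulEquiv.isDomain, IsIntegrallyClosed.of_equiv e⟩
  have hN := (Groth.Agent.S9673.result g hY hlf).1
  let X := g.normalization
  let ν := g.fromNormalization
  let pt : Spec (CommRingCat.of K) := default
  haveI : IsDominant g.toNormalization := inferInstance
  have hrange : closure ({g.toNormalization pt} : Set X) = Set.univ := by
    have h := g.toNormalization.denseRange.closure_range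
    rwa [show Set.range g.toNormalization = {g.toNormalization pt} from
      Set.eq_singleton_iff_unique_mem.mpr ⟨⟨pt, rfl⟩, by rintro _ ⟨y, rfl⟩; exact congrArg _ (Subsingleton.elim _ _)⟩]
      at h
  haveI : IrreducibleSpace X := by
    haveI : Nonempty X := ⟨g.toNormalization pt⟩
    haveI : PreirreducibleSpace X :=
      ⟨by rw [← hrange]; exact (isIrreducible_singleton.closure).isPreirreducible⟩
    exact ⟨inferInstance⟩
  haveI : IsReduced X := by
    haveI : ∀ x : X, _root_.IsReduced (X.presheaf.stalk x) := fun x => by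
      haveI := (hN x).1
      infer_instance
    exact isReduced_of_isReduced_stalk X
  haveI : IsIntegral X := isIntegral_of_irreducibleSpace_of_isReduced X
  let p : X ⟶ Spec (CommRingCat.of k) := ν ≫ π
  haveI : IsProper p := (inferInstance : IsProper (ν ≫ π))
  -- the function field
  have hξ : g.toNormalization pt = genericPoint X :=
    ((genericPoint_spec X).eq (show IsGenericPoint (g.toNormalization pt) Set.univ from hrange)).symm
  let τ : X.presheaf.stalk (g.toNormalization pt) →+* (Spec (CommRingCat.of K)).presheaf.stalk pt :=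
    (g.toNormalization.stalkMap pt).hom
  haveI hfld : IsField (X.presheaf.stalk (g.toNormalization pt)) := by
    rw [hξ]
    exact Field.toIsField X.functionField
  have hτinj : Function.Injective τ := by
    letI := hfld.toField
    exact τ.injective
  let W : P.Opens := j ''ᵁ ⊤
  have hW : IsAffineOpen W := (isAffineOpen_top _).image_of_isOpenImmersion j
  have hgW : pt ∈ g ⁻¹ᵁ W := ⟨c pt, trivial, rfl⟩
  let κ : Γ(Spec (CommRingCat.of K), g ⁻¹ᵁ W) →+* (Spec (CommRingCat.of K)).presheaf.stalk pt :=
    ((Spec (CommRingCat.of K)).presheaf.germ _ pt hgW).hom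
  have hκ : Function.Injective κ := germ_injective_of_isIntegral _ pt hgW
  let ι : A →+* Γ(P, W) := ((Scheme.ΓSpecIso (CommRingCat.of A)).inv ≫ (j.appIso ⊤).inv).hom
  have hι : ∀ q : A, κ (g.app W (ι q)) = toStalk K pt (ψ q) := fun q => by
    show (Spec (CommRingCat.of K)).presheaf.germ _ pt hgW (c.app _ (j.app W ((j.appIso ⊤).inv
      ((Scheme.ΓSpecIso (CommRingCat.of A)).inv q)))) = _
    rw [← ConcreteCategory.comp_apply (j.appIso ⊤).inv, Scheme.Hom.appIso_inv_app]
    erw [← ConcreteCategory.comp_apply _ (c.app _), Scheme.Hom.naturality, ConcreteCategory.comp_apply,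
      TopCat.Presheaf.germ_res_apply]
    simp only [toStalk, CommRingCat.hom_comp, RingHom.comp_apply]
    exact congrArg _ (ConcreteCategory.congr_hom
      (Scheme.ΓSpecIso_inv_naturality (CommRingCat.ofHom ψ.toRingHom)) q).symm
  have hint : ∀ z : Γ(Spec (CommRingCat.of K), g ⁻¹ᵁ W), (g.app W).hom.IsIntegralElem z →
      ∃ a, τ a = κ z := fun z hz => by
    letI := (g.app W).hom.toAlgebra
    let e := g.normalizationObjIso hW
    let w : Γ(g.normalization, g.fromNormalization ⁻¹ᵁ W) := e.inv ⟨z, hz⟩
    have hw : g.toNormalization.appLE (g.fromNormalization ⁻¹ᵁ W) (g ⁻¹ᵁ W)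
        (by rw [← Scheme.Hom.comp_preimage, Scheme.Hom.toNormalization_fromNormalization]) w = z := by
      rw [← Scheme.Hom.normalizationObjIso_hom_val g hW]
      simp only [CommRingCat.hom_comp, RingHom.comp_apply, w]
      erw [ConcreteCategory.congr_hom e.inv_hom_id]
      rfl
    refine ⟨g.normalization.presheaf.germ _ (g.toNormalization pt) (by
      show g.toNormalization pt ∈ g.fromNormalization ⁻¹ᵁ W
      have := hgW
      rwa [← g.toNormalization_fromNormalization] at this) w, ?_⟩
    refine (Scheme.Hom.germ_stalkMap_apply g.toNormalization (g.fromNormalization ⁻¹ᵁ W) pt _ w).trans ?_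
    rw [← hw, Scheme.Hom.appLE, ConcreteCategory.comp_apply]
    exact (TopCat.Presheaf.germ_res_apply _ _ _ _ _).symm
  have hτsurj : Function.Surjective τ := fun b => by
    obtain ⟨b', rfl⟩ := (toStalk_bijective K pt).2 b
    obtain ⟨q, hq, hqb⟩ := halg b'
    have hsurjκ : Function.Surjective κ := fun y => by
      obtain ⟨y, rfl⟩ := (toStalk_bijective K pt).2 y
      exact ⟨(Spec (CommRingCat.of K)).presheaf.map (homOfLE le_top).op ((Scheme.ΓSpecIso (CommRingCat.of K)).inv y),
        TopCat.Presheaf.germ_res_apply _ _ _ _ _⟩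
    obtain ⟨z, hz⟩ := hsurjκ (toStalk K pt (ψ q * b'))
    have hzi : (g.app W).hom.IsIntegralElem z := by
      obtain ⟨f, hfm, hf⟩ := hqb
      refine ⟨f.map ι, hfm.map ι, hκ ?_⟩
      rw [map_zero, Polynomial.hom_eval₂, hz, Polynomial.eval₂_map,
        show (κ.comp (g.app W).hom).comp ι = (toStalk K pt).comp ψ.toRingHom from RingHom.ext hι,
        ← Polynomial.hom_eval₂]
      exact (congrArg (toStalk K pt) hf).trans (map_zero _)
    obtain ⟨a₁, ha₁⟩ := hint z hzi
    obtain ⟨a₂, ha₂⟩ := hint (g.app W (ι q)) ((g.app W).hom.isIntegralElem_map)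
    rw [hι] at ha₂
    have hne : toStalk K pt (ψ q) ≠ 0 := fun h => hq (hψ (((toStalk_bijective K pt).1
      (h.trans (map_zero _).symm)).trans (map_zero ψ).symm))
    have ha₂0 : a₂ ≠ 0 := fun h => hne (by rw [← ha₂, h, map_zero])
    obtain ⟨a₂', h₂⟩ := hfld.mul_inv_cancel ha₂0
    refine ⟨a₁ * a₂', ?_⟩
    rw [map_mul, ha₁, hz, map_mul, ← ha₂, mul_comm (τ a₂), mul_assoc, ← map_mul, h₂, map_one, mul_one]
  let e₀ : X.presheaf.stalk (g.toNormalization pt) ≃+* K :=
    (RingEquiv.ofBijective τ ⟨hτinj, hτsurj⟩).trans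
      (RingEquiv.ofBijective (toStalk K pt) (toStalk_bijective K pt)).symm
  have he₀ : ∀ r : k, e₀ (X.presheaf.germ ⊤ (g.toNormalization pt) trivial
      (p.appTop ((Scheme.ΓSpecIso (CommRingCat.of k)).inv r))) = algebraMap k K r := fun r => by
    show (RingEquiv.ofBijective (toStalk K pt) (toStalk_bijective K pt)).symm (τ _) = _
    refine (RingEquiv.symm_apply_eq _).mpr ?_
    refine germ_stalkMap_of_comp k K g.toNormalization p ?_ pt r
    rw [← hgπ]
    simp [p, ν]
  have hgenK : ∃ e : X.presheaf.stalk (genericPoint X) ≃+* K,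
      ∀ r : k, e (X.presheaf.germ ⊤ (genericPoint X) trivial
        (p.appTop ((Scheme.ΓSpecIso (CommRingCat.of k)).inv r))) = algebraMap k K r := by
    have key : ∀ x : X, x = g.toNormalization pt → ∃ e : X.presheaf.stalk x ≃+* K,
        ∀ r : k, e (X.presheaf.germ ⊤ x trivial
          (p.appTop ((Scheme.ΓSpecIso (CommRingCat.of k)).inv r))) = algebraMap k K r := by
      rintro _ rfl
      exact ⟨e₀, he₀⟩
    exact key _ hξ.symm
  obtain ⟨e, he⟩ := hgenK
  refine ⟨X, p, inferInstance, inferInstance, hN, ?_, e, he⟩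
  -- dimension
  letI : X.Over (Spec (CommRingCat.of k)) := ⟨p⟩
  haveI : LocallyOfFiniteType (X ↘ Spec (CommRingCat.of k)) := (inferInstance : LocallyOfFiniteType p)
  have hres : (letI := (Curv2.resMap k X (genericPoint X)).toAlgebra;
      Algebra.trdeg k (X.residueField (genericPoint X))) = (1 : ℕ) := by
    letI := (Curv2.resMap k X (genericPoint X)).toAlgebra
    have hb : Function.Bijective (X.residue (genericPoint X)).hom := by
      letI := (Field.toIsField X.functionField).toField
      exact ⟨RingHom.injective (X.residue (genericPoint X)).hom, IsLocalRing.residue_surjective⟩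
    let ε : K ≃ₐ[k] X.residueField (genericPoint X) :=
      AlgEquiv.ofRingEquiv (f := e.symm.trans (RingEquiv.ofBijective _ hb)) fun r =>
        congrArg (X.residue (genericPoint X)).hom ((RingEquiv.symm_apply_eq e).mpr (he r).symm)
    rw [← ε.trdeg_eq, htr, Nat.cast_one]
  have hdim : topologicalKrullDim X = 1 := by
    rw [← H22Alg.VarDim.cdim_genericPoint (X := X), H22Alg.VarDim.cdim_eq_of_trdeg k X _ 1 hres]
    rfl
  intro x hx
  refine le_antisymm ?_ ?_
  · rw [← hdim, ← PrimeSpectrum.topologicalKrullDim_eq_ringKrullDim]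
    exact (X.fromSpecStalk x).isEmbedding.isInducing.topologicalKrullDim_le
  · by_contra hlt
    have h0 : ringKrullDim (X.presheaf.stalk x) = 0 := by
      refine le_antisymm ?_ ringKrullDim_nonneg_of_nontrivial
      rw [not_le] at hlt
      rcases h : ringKrullDim (X.presheaf.stalk x) with _ | d
      · exact bot_le
      · rw [h] at hlt
        exact WithBot.coe_le_coe.mpr (Order.lt_one_iff.mp (WithBot.coe_lt_coe.mp hlt)).le
    have hxg := (Groth.Agent.H12AlgSp.ringKrullDim_stalk_eq_zero_iff x).mp h0
    rw [Groth.Agent.H8Props.mem_genericPoints_iff] at hxg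
    have hxe : x = genericPoint X := (hxg _ (genericPoint_specializes x)).symm
    have h1 : H8Props.FieldDim.cdim x = 1 := by
      rw [hxe, H22Alg.VarDim.cdim_eq_of_trdeg k X _ 1 hres]
      rfl
    rw [(H22Alg.FibreCount.isClosed_iff_cdim_eq_zero (X ↘ Spec (CommRingCat.of k)) x).mp hx] at h1
    exact zero_ne_one h1

end Groth.Agent.H11Curve
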