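import Mathlib
import Groth.Prelude.Def_Curv2
import Groth.Agent.H12AlgSp.NagataSpace
import Groth.Agent.H17.NagataNorm
import Groth.Agent.H11Curve.Complete

/-!
# The normalization of an integral scheme of finite type over a field is finite
-/

set_option autoImplicit false
set_option linter.style.haveILetI false
universe u
open CategoryTheory CategoryTheory.Limits AlgebraicGeometry TopologicalSpace

namespace Groth.Agent.H11Curve

theorem isFinite_normalizationι {k : Type u} [Field k] {X : Scheme.{u}} [IsIntegral X]
    (p : X ⟶ Spec (CommRingCat.of k)) [LocallyOfFiniteType p]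
    [QuasiCompact (X.fromSpecStalk (genericPoint X))]
    [QuasiSeparated (X.fromSpecStalk (genericPoint X))] :
    IsFinite (Curv2.normalizationι X) := by
  haveI : IsReduced (Spec (X.presheaf.stalk (genericPoint X))) := by
    haveI : IsDomain (X.presheaf.stalk (genericPoint X)) := inferInstanceAs (IsDomain X.functionField)
    infer_instance
  haveI : IsLocallyNoetherian (Spec (X.presheaf.stalk (genericPoint X))) := by
    haveI : IsNoetherianRing (X.presheaf.stalk (genericPoint X)) :=
      inferInstanceAs (IsNoetherianRing X.functionField)
    infer_instance
  refine H17.NagataNorm.finite_fromNormalization (X.fromSpecStalk (genericPoint X))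
    (fun U => H12AlgSp.isNagata_affineOpens_of_lft p (isNagata_affineOpen_spec_field k) U.1 U.2)
    (H17.NagataNorm.locallyFinite_irreducibleComponents _) fun x _ => ?_
  exact RingHom.EssFiniteType.residueFieldMap
    ((RingHom.FiniteType.of_surjective _ ((X.fromSpecStalk (genericPoint X)).stalkMap_surjective x)).essFiniteType)

end Groth.Agent.H11Curve
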