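import Groth.Agent.H05EGA4.Regular2
import Groth.Agent.H8Props.FlatDepth
import Groth.Agent.H8Props.FibreStalk
import Groth.Agent.H8Props.Reduced
import Groth.Agent.H22Alg.FlatSurj
import Groth.Agent.H1CAlg.Serre
import Groth.Agent.H17.ZDepth.Base
import Groth.Prelude.Def_Pi1
import Mathlib.AlgebraicGeometry.Fiber

/-!
# Normality of a flat family with reduced fibres over a normal base

If `f : X ⟶ S` is flat, `S` is normal, all fibres are reduced and the local rings of `X` over
points of dimension zero of `S` are normal, then `X` is normal (Serre's criterion).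
-/

set_option autoImplicit false

universe u

open AlgebraicGeometry CategoryTheory IsLocalRing

namespace Groth.Agent.H11Curve.NormalTotal

theorem natCast_min_two_le_depth_of_normal (A : Type u) [CommRing A] [IsLocalRing A] [IsNoetherianRing A]
    [IsDomain A] [IsIntegrallyClosed A] {a d : ℕ} (ha : ringKrullDim A = a) (hd : LocCoh.depth A A = d) :
    min 2 a ≤ d := by
  by_cases h2 : 2 ≤ a
  · have := H1CAlg.depth_ge_two_of_isIntegrallyClosed (R := A) (by rw [ha]; exact_mod_cast h2)
    rw [hd] at this
    norm_cast at this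
    omega
  · have := H1CAlg.isRegularLocalRing_of_isIntegrallyClosed (R := A) (by rw [ha]; exact_mod_cast (show a ≤ 1 by omega))
    have h := H4Depth.depth_self_eq_ringKrullDim_of_regular A
    rw [hd, ha] at h
    norm_cast at h
    omega

/-- A reduced local ring has depth at least `min 1 dim`. -/
theorem natCast_min_one_le_depth_of_isReduced (A : Type u) [CommRing A] [IsLocalRing A] [IsNoetherianRing A]
    [_root_.IsReduced A] {a d : ℕ} (ha : ringKrullDim A = a) (hd : LocCoh.depth A A = d) :
    min 1 a ≤ d := by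
  rcases Nat.eq_zero_or_pos a with rfl | hpos
  · simp
  refine (min_le_left _ _).trans ?_
  have h1 : (1 : ℕ∞) ≤ LocCoh.depth A A := by
    refine (H17.ZDepth.one_le_depth_iff A).2 fun hass => ?_
    have hmin := H1CAlg.hasSk_one_self_iff.1 (H1CAlg.isReduced_iff_R0_S1.1 ‹_›).2 _ hass
    have h0 := IsLocalRing.maximalIdeal_height_eq_ringKrullDim (R := A)
    rw [Ideal.height_eq_zero_iff.2 hmin, ha] at h0
    have : (0 : ℕ) = a := by exact_mod_cast h0
    omega
  rw [hd] at h1
  exact_mod_cast h1

/-- Flat local map with normal base and reduced closed fibre. -/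
theorem regular_and_depth_of_flat_reduced (A B : Type u) [CommRing A] [CommRing B] [IsLocalRing A] [IsLocalRing B]
    [IsNoetherianRing A] [IsNoetherianRing B] [Algebra A B] [IsLocalHom (algebraMap A B)] [Module.Flat A B]
    [IsDomain A] [IsIntegrallyClosed A]
    [_root_.IsReduced (B ⧸ (maximalIdeal A).map (algebraMap A B))]
    (h0 : ringKrullDim A = 0 → IsDomain B ∧ IsIntegrallyClosed B) :
    (ringKrullDim B ≤ 1 → IsRegularLocalRing B) ∧
      min (2 : WithBot ℕ∞) (ringKrullDim B) ≤ ((LocCoh.depth B B : ℕ∞) : WithBot ℕ∞) := by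
  obtain ⟨a, ha⟩ := H05EGA4.exists_dim_eq_nat A
  obtain ⟨b, hb⟩ := H05EGA4.exists_dim_eq_nat B
  obtain ⟨db, hdb⟩ := ENat.ne_top_iff_exists.mp (H8Props.FlatDepth.depth_ne_top B B)
  rcases Nat.eq_zero_or_pos a with rfl | hpos
  · obtain ⟨_, _⟩ := h0 (by simpa using ha)
    refine ⟨fun h => H1CAlg.isRegularLocalRing_of_isIntegrallyClosed h, ?_⟩
    have e := natCast_min_two_le_depth_of_normal B hb hdb.symm
    rw [hb, ← hdb]
    rcases le_total b 2 with h | h
    · exact (min_le_right _ _).trans (by exact_mod_cast (show b ≤ db by omega))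
    · exact (min_le_left _ _).trans (Nat.cast_le.mpr (show 2 ≤ db by omega))
  have := H8Props.FlatDepth.isLocalRing_fibre A B
  let C := B ⧸ (maximalIdeal A).map (algebraMap A B)
  obtain ⟨c, hc⟩ := H05EGA4.exists_dim_eq_nat C
  obtain ⟨da, hda⟩ := ENat.ne_top_iff_exists.mp (H8Props.FlatDepth.depth_ne_top A A)
  obtain ⟨dc, hdc⟩ := ENat.ne_top_iff_exists.mp (H8Props.FlatDepth.depth_ne_top C C)
  have h1 := H8Props.FlatDepth.ringKrullDim_eq_add A B
  rw [ha, show ringKrullDim (B ⧸ (maximalIdeal A).map (algebraMap A B)) = c from hc, ← Nat.cast_add] at h1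
  have h2 := H8Props.FlatDepth.depth_eq_add A B
  rw [← hda, show LocCoh.depth (B ⧸ (maximalIdeal A).map (algebraMap A B))
      (B ⧸ (maximalIdeal A).map (algebraMap A B)) = dc from hdc.symm, ← Nat.cast_add] at h2
  refine ⟨fun hB => ?_, ?_⟩
  · rw [h1] at hB
    have hac : a + c ≤ 1 := by exact_mod_cast hB
    have := H1CAlg.isRegularLocalRing_of_isIntegrallyClosed (R := A)
      (by rw [ha]; exact_mod_cast (show a ≤ 1 by omega))
    have hC0 : ringKrullDim C = 0 := by rw [hc, show c = 0 by omega]; rfl
    haveI : Ring.KrullDimLE 0 C := (Ring.krullDimLE_iff).2 hC0.le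
    have hfield : IsField C := Ring.KrullDimLE.isField_of_isReduced
    have : IsRegularLocalRing (B ⧸ (maximalIdeal A).map (algebraMap A B)) := by
      refine IsRegularLocalRing.of_spanFinrank_maximalIdeal_le _ ?_
      rw [(IsLocalRing.isField_iff_maximalIdeal_eq).1 hfield, Submodule.spanFinrank_bot]
      exact hC0.ge
    exact H05EGA4.isRegularLocalRing_of_flat_of_fibre A B
  · have e1 := natCast_min_two_le_depth_of_normal A ha hda.symm
    have e2 := natCast_min_one_le_depth_of_isReduced C hc hdc.symm
    rw [h1, h2]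
    rcases le_total (a + c) 2 with h | h
    · exact (min_le_right _ _).trans (by exact_mod_cast (show a + c ≤ da + dc by omega))
    · refine (min_le_left _ _).trans ?_
      show ((2 : ℕ) : WithBot ℕ∞) ≤ ((da + dc : ℕ) : WithBot ℕ∞)
      exact Nat.cast_le.mpr (by omega)

variable {S X : Scheme.{u}}

/-- **Normality of the total space** of a flat family with reduced fibres over a normal base. -/
theorem isNormalScheme_of_flat_reduced_fibres [IsLocallyNoetherian S] [IsLocallyNoetherian X] (f : X ⟶ S)
    [Flat f] (hS : Pi1.IsNormalScheme S)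
    (hred : ∀ x : X, _root_.IsReduced ((f.fiber (f x)).presheaf.stalk (f.asFiber x)))
    (hgen : ∀ x : X, ringKrullDim (S.presheaf.stalk (f x)) = 0 →
      IsDomain (X.presheaf.stalk x) ∧ IsIntegrallyClosed (X.presheaf.stalk x)) :
    Pi1.IsNormalScheme X := by
  have key : ∀ y : X, (ringKrullDim (X.presheaf.stalk y) ≤ 1 → IsRegularLocalRing (X.presheaf.stalk y)) ∧
      min (2 : WithBot ℕ∞) (ringKrullDim (X.presheaf.stalk y)) ≤
        ((LocCoh.depth (X.presheaf.stalk y) (X.presheaf.stalk y) : ℕ∞) : WithBot ℕ∞) := by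
    intro y
    letI := (f.stalkMap y).hom.toAlgebra
    haveI : IsLocalHom (algebraMap (S.presheaf.stalk (f y)) (X.presheaf.stalk y)) :=
      inferInstanceAs (IsLocalHom (f.stalkMap y).hom)
    haveI : Module.Flat (S.presheaf.stalk (f y)) (X.presheaf.stalk y) := Flat.stalkMap f y
    haveI := (hS (f y)).1
    haveI := (hS (f y)).2
    haveI := hred y
    haveI : _root_.IsReduced (X.presheaf.stalk y ⧸ (maximalIdeal (S.presheaf.stalk (f y))).map
        (algebraMap (S.presheaf.stalk (f y)) (X.presheaf.stalk y))) := by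
      have hk := H8Props.FibreStalk.ker_toFibre f y (f.asFiber y) (f.fiberι_asFiber y)
      exact isReduced_of_injective
        ((RingHom.quotientKerEquivOfSurjective
          (H8Props.FibreStalk.toFibre_surjective f y (f y) _ (f.fiberι_asFiber y))).toRingHom.comp
          (Ideal.quotEquivOfEq hk.symm).toRingHom)
        (((RingHom.quotientKerEquivOfSurjective
          (H8Props.FibreStalk.toFibre_surjective f y (f y) _ (f.fiberι_asFiber y))).injective).comp
          (Ideal.quotEquivOfEq hk.symm).injective)
    exact regular_and_depth_of_flat_reduced (S.presheaf.stalk (f y)) (X.presheaf.stalk y) (hgen y)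
  intro x
  let R := X.presheaf.stalk x
  have hloc : ∀ (P : Ideal R) [P.IsPrime],
      (ringKrullDim (Localization.AtPrime P) ≤ 1 → IsRegularLocalRing (Localization.AtPrime P)) ∧
      min (2 : WithBot ℕ∞) (ringKrullDim (Localization.AtPrime P)) ≤
        ((LocCoh.depth (Localization.AtPrime P) (Localization.AtPrime P) : ℕ∞) : WithBot ℕ∞) := by
    intro P _
    let p : Spec R := ⟨P, ‹_›⟩
    haveI := H22Alg.flat_fromSpecStalk X x
    haveI : IsIso ((X.fromSpecStalk x).stalkMap p) := (ConcreteCategory.isIso_iff_bijective _).mpr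
      (H8Props.bijective_stalkMap_of_flat _ _ (Flat.stalkMap _ _))
    letI : Algebra R ((Spec R).presheaf.stalk p) :=
      (inferInstance : Algebra R ((AlgebraicGeometry.Spec.structureSheaf R).presheaf.stalk p))
    haveI : IsLocalization P.primeCompl ((Spec R).presheaf.stalk p) :=
      AlgebraicGeometry.StructureSheaf.IsLocalization.to_stalk R p
    let e : X.presheaf.stalk (X.fromSpecStalk x p) ≃+* Localization.AtPrime P :=
      (asIso ((X.fromSpecStalk x).stalkMap p)).commRingCatIsoToRingEquiv.trans
        (IsLocalization.algEquiv P.primeCompl ((Spec R).presheaf.stalk p) (Localization.AtPrime P)).toRingEquiv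
    obtain ⟨h1, h2⟩ := key (X.fromSpecStalk x p)
    refine ⟨fun h => ?_, ?_⟩
    · rw [← ringKrullDim_eq_of_ringEquiv e] at h
      have := h1 h
      exact IsRegularLocalRing.of_ringEquiv e
    · rw [← ringKrullDim_eq_of_ringEquiv e]
      refine h2.trans (le_of_eq ?_)
      letI := e.toRingHom.toAlgebra
      have hs : Function.Surjective
          (algebraMap (X.presheaf.stalk (X.fromSpecStalk x p)) (Localization.AtPrime P)) := e.surjective
      rw [H8Props.FlatDepth.depth_eq_of_surjective (M := Localization.AtPrime P) hs]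
      exact congrArg _ (H4Depth.depth_congr
        (LinearEquiv.ofBijective (Algebra.linearMap (X.presheaf.stalk (X.fromSpecStalk x p))
          (Localization.AtPrime P)) e.bijective))
  have hRS : LocCoh.HasRk 1 R ∧ LocCoh.HasSk 2 R R := by
    refine ⟨fun P _ hP => (hloc P).1 ?_, fun P _ => ?_⟩
    · rw [IsLocalization.AtPrime.ringKrullDim_eq_height P]
      exact_mod_cast hP
    · obtain ⟨e⟩ := H4Depth.exists_localizedModule_self_equiv (R := R) P
      rw [H4Depth.depth_congr e, Module.supportDim_eq_of_equiv e, Module.supportDim_self_eq_ringKrullDim]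
      exact (hloc P).2
  obtain ⟨_, _⟩ := (H1CAlg.normal_iff_R1_S2 (R := R)).mpr hRS (maximalIdeal R)
  let e := (IsLocalization.atUnits R (maximalIdeal R).primeCompl
    (S := Localization.AtPrime (maximalIdeal R)) (fun x hx => (IsLocalRing.notMem_maximalIdeal.mp hx))).toRingEquiv
  exact ⟨e.toMulEquiv.isDomain _, IsIntegrallyClosed.of_equiv e.symm⟩

end Groth.Agent.H11Curve.NormalTotal
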