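import Mathlib.RingTheory.Length
import Mathlib.RingTheory.Nakayama
import Mathlib.RingTheory.KrullDimension.Regular

/-!
# Length of a hypersurface section of a singular local ring: at least the multiplicity
-/

set_option autoImplicit false
set_option linter.style.haveILetI false

universe u v

namespace Groth.Agent.H11Curve

open IsLocalRing

/-- In positive dimension the powers of the maximal ideal decrease strictly. -/
theorem not_pow_le_pow_succ {R : Type u} [CommRing R] [IsLocalRing R] [IsNoetherianRing R]
    (hdim : 1 ≤ ringKrullDim R) (i : ℕ) : ¬ maximalIdeal R ^ i ≤ maximalIdeal R ^ (i + 1) := fun h => by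
  have h0 : maximalIdeal R ^ i = ⊥ := Submodule.eq_bot_of_le_smul_of_le_jacobson_bot (maximalIdeal R)
    (maximalIdeal R ^ i) (IsNoetherian.noetherian _)
    (by rwa [smul_eq_mul, ← pow_succ']) (maximalIdeal_le_jacobson _)
  have hp : ∀ P : Ideal R, P.IsPrime → P = maximalIdeal R := fun P hP =>
    le_antisymm (le_maximalIdeal hP.ne_top) (Ideal.IsPrime.le_of_pow_le (hP := hP) (h0 ▸ bot_le))
  have : Ring.KrullDimLE 0 R := Ring.KrullDimLE.mk₀ fun P hP => hp P hP ▸ maximalIdeal.isMaximal R
  exact absurd (hdim.trans (Ring.krullDimLE_iff.mp this)) (by simp)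

/-- If `A` is cut out of a local ring of dimension at least two inside `𝔪 ^ m`, then cutting `A` by a
non-unit leaves length at least `m`. -/
theorem le_length_quotient_span {R A : Type u} [CommRing R] [IsLocalRing R] [IsNoetherianRing R]
    [CommRing A] [IsLocalRing A] (φ : R →+* A) (hφ : Function.Surjective φ) (hdim : 2 ≤ ringKrullDim R)
    {m : ℕ} (hker : RingHom.ker φ ≤ maximalIdeal R ^ m) (a : A) (ha : a ∈ maximalIdeal A) :
    (m : ℕ∞) ≤ Module.length A (A ⧸ Ideal.span {a}) := by
  obtain ⟨r, rfl⟩ := hφ a
  haveI : IsLocalHom φ := hφ.isLocalHom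
  have hr : r ∈ maximalIdeal R := by
    rw [mem_maximalIdeal, mem_nonunits_iff] at ha ⊢
    exact fun h => ha (h.map φ)
  let R' := R ⧸ Ideal.span {r}
  haveI : Nontrivial R' := Ideal.Quotient.nontrivial_iff.2 (by
    rw [Ne, Ideal.span_singleton_eq_top]; exact hr)
  haveI : IsLocalRing R' := IsLocalRing.of_surjective' _ Ideal.Quotient.mk_surjective
  have hdim' : 1 ≤ ringKrullDim R' := by
    have h := hdim.trans (ringKrullDim_le_ringKrullDim_quotient_add_card (R := R) {r} (by simpa [IsLocalRing.ringJacobson_eq_maximalIdeal] using hr))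
    simp only [Finset.card_singleton, Nat.cast_one] at h
    rw [show Ideal.span (SetLike.coe ({r} : Finset R)) = Ideal.span {r} from congrArg Ideal.span (by ext; simp)] at h
    by_contra h1
    have h0 : ringKrullDim R' ≤ 0 := by
      revert h1
      cases ringKrullDim R' with
      | bot => exact fun _ => bot_le
      | coe a =>
        intro h1
        exact WithBot.coe_le_coe.2 (ENat.lt_one_iff_eq_zero.1 (WithBot.coe_lt_coe.1 (not_le.1 h1))).le
    exact absurd (h.trans (add_le_add_left h0 1)) (by decide)
  have hM : ∀ j, (maximalIdeal R ^ j).map φ = maximalIdeal A ^ j := fun j => by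
    rw [Ideal.map_pow, IsLocalRing.map_maximalIdeal_of_surjective φ hφ]
  have hstep : ∀ j, j < m → maximalIdeal A ^ (j + 1) ⊔ Ideal.span {φ r} < maximalIdeal A ^ j ⊔ Ideal.span {φ r} := by
    intro j hj
    refine lt_of_le_of_ne (sup_le_sup_right (Ideal.pow_le_pow_right j.le_succ) _) fun h => ?_
    refine not_pow_le_pow_succ hdim' j ?_
    have h2 : maximalIdeal R ^ j ≤ maximalIdeal R ^ (j + 1) ⊔ Ideal.span {r} := by
      have h3 : ((maximalIdeal R ^ j).map φ) ≤ (maximalIdeal R ^ (j + 1) ⊔ Ideal.span {r}).map φ := by
        rw [Ideal.map_sup, Ideal.map_span, Set.image_singleton, hM, hM, h]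
        exact le_sup_left
      refine (Ideal.le_comap_map.trans (Ideal.comap_mono h3)).trans ?_
      rw [Ideal.comap_map_of_surjective φ hφ]
      refine sup_le le_rfl (hker.trans (le_sup_of_le_left (Ideal.pow_le_pow_right (by omega))))
    have h4 := Ideal.map_mono (f := Ideal.Quotient.mk (Ideal.span {r})) h2
    rw [Ideal.map_sup, Ideal.map_quotient_self, sup_bot_eq, Ideal.map_pow, Ideal.map_pow,
      IsLocalRing.map_maximalIdeal_of_surjective _ Ideal.Quotient.mk_surjective] at h4
    exact h4
  let π := (Ideal.span {φ r} : Submodule A A).mkQ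
  let F : Fin (m + 1) → Submodule A (A ⧸ Ideal.span {φ r}) := fun i => Submodule.map π (maximalIdeal A ^ (m - i.val))
  have hF : ∀ i : Fin m, F i.castSucc < F i.succ := fun i => by
    obtain ⟨j, hj, he, he'⟩ : ∃ j, j < m ∧ m - i.val = j + 1 ∧ m - (i.val + 1) = j :=
      ⟨m - (i.val + 1), by omega, by omega, rfl⟩
    simp only [F, Fin.val_castSucc, Fin.val_succ, he, he']
    refine lt_of_le_of_ne (Submodule.map_mono (Ideal.pow_le_pow_right j.le_succ)) fun h => (hstep j hj).ne ?_
    have h1 := congrArg (Submodule.comap π) h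
    rw [Submodule.comap_map_mkQ, Submodule.comap_map_mkQ, sup_comm, sup_comm (Ideal.span {φ r})] at h1
    exact h1
  have h := Order.LTSeries.length_le_krullDim (α := Submodule A (A ⧸ Ideal.span {φ r})) ⟨m, F, hF⟩
  rw [← Module.coe_length] at h
  exact_mod_cast h

/-- The length over an algebra is at most the dimension over the ground field. -/
theorem length_le_finrank (k : Type u) [Field k] {R : Type u} [CommRing R] [Algebra k R] (M : Type v)
    [AddCommGroup M] [Module R M] [Module k M] [IsScalarTower k R M] [Module.Finite k M] :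
    Module.length R M ≤ Module.finrank k M := by
  rw [← Module.length_eq_finrank k M, ← WithBot.coe_le_coe, Module.coe_length, Module.coe_length]
  exact Order.krullDim_le_of_strictMono (Submodule.restrictScalars k) fun _ _ h => h

end Groth.Agent.H11Curve
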