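import Groth.Agent.H22Alg.CurveProj
import Groth.Agent.H11Curve.LenMult

/-!
# The degree of an invertible module is at least the local length of the zeros of a section
-/

set_option autoImplicit false
set_option linter.style.haveILetI false

universe u

open CategoryTheory CategoryTheory.Limits AlgebraicGeometry TopologicalSpace
open Groth.Agent.H11Tilde Groth.Agent.H11Ample

noncomputable section

namespace Groth.Agent.H11Curve

/-- A section not vanishing at the generic point, equal to `a` times a generator at `y`, forces the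
degree to be at least the length of `O_y / (a)`. -/
theorem le_deg_of_section (k : Type u) [Field k] {Y : Scheme.{u}} [Y.Over (Spec (CommRingCat.of k))]
    [IsProper (Y ↘ Spec (CommRingCat.of k))] [IsIntegral Y] (hdim : topologicalKrullDim Y ≤ 1)
    {L : Y.Modules} (hL : PicF.IsInvertible L) (g : Γ(L, ⊤)) (hη : genericPoint Y ∈ gen L g) {y : Y}
    (e : L.presheaf.stalk y) (he : Function.Bijective fun r : Y.presheaf.stalk y => r • e)
    (a : Y.presheaf.stalk y) (ha : a ∈ IsLocalRing.maximalIdeal (Y.presheaf.stalk y))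
    (hg : L.presheaf.germ ⊤ y trivial g = a • e) {m : ℕ}
    (hm : (m : ℕ∞) ≤ Module.length (Y.presheaf.stalk y) (Y.presheaf.stalk y ⧸ Ideal.span {a})) :
    (m : ℤ) ≤ Curv2.deg k Y L 1 := by
  haveI := H29RR.isNoetherian_of_proper (k := k) (X := Y)
  have hg0 : g ≠ 0 := by
    rintro rfl
    have h := ((mem_gen_iff hL (0 : Γ(L, ⊤)) _).1 hη).1 (a₁ := 1) (a₂ := 0) (by simp)
    exact one_ne_zero h
  obtain ⟨hmono, hη'⟩ := H29RR.mono_homOfGlobal hL hg0
  let s := H11Tilde.homOfGlobal L g
  haveI : Mono s := hmono
  obtain ⟨hQ, hfin, hcl, heu⟩ := H29RR.euler_sub_of_mono (k := k) hdim (H10Coh.isCoh_structureModule' Y)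
    (isCoh_of_isInvertible hL) s hη'
  have hgen : y ∉ gen L g := fun h => by
    have h1 := ((mem_gen_iff hL g y).1 h).2 e
    obtain ⟨r, hr⟩ := h1
    simp only [hg, smul_smul] at hr
    have h2 : r * a = 1 := he.1 (show (r * a) • e = (1 : Y.presheaf.stalk y) • e by rw [hr, one_smul])
    exact ha (IsUnit.of_mul_eq_one r (by rw [mul_comm]; exact h2))
  have hys : y ∈ CohB1.support (cokernel s) := by
    by_contra h
    exact hgen (H25Euler.mem_gen_of_notMem_support_coker hL g h)
  haveI := H10Coh.finite_HH_proper k Y _ hQ 0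
  have hb := H25Par.germs_bijective (k := k) (cokernel s) hfin hcl (fun z hz => not_not.1 hz)
  let P : Coh.HH Y (cokernel s) 0 →ₗ[k] H25Par.Stk k (cokernel s) y :=
    (LinearMap.proj (⟨y, hys⟩ : CohB1.support (cokernel s))).comp
      (H25Par.germs (k := k) (cokernel s) (CohB1.support (cokernel s)))
  have hP : Function.Surjective P := fun v => by
    classical
    obtain ⟨w, hw⟩ := hb.2 (Function.update 0 ⟨y, hys⟩ v)
    exact ⟨w, (congrFun hw ⟨y, hys⟩).trans (Function.update_self _ _ _)⟩
  haveI : Module.Finite k (H25Par.Stk k (cokernel s) y) := Module.Finite.of_surjective P hP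
  have h1 : Module.finrank k (H25Par.Stk k (cokernel s) y) ≤ Module.finrank k (Coh.HH Y (cokernel s) 0) :=
    LinearMap.finrank_le_finrank_of_surjective hP
  letI := (H25Par.constStalk (k := k) y).toAlgebra
  letI : Module (Y.presheaf.stalk y) (H25Par.Stk k (cokernel s) y) :=
    inferInstanceAs (Module (Y.presheaf.stalk y) ((cokernel s).presheaf.stalk y))
  haveI : IsScalarTower k (Y.presheaf.stalk y) (H25Par.Stk k (cokernel s) y) :=
    .of_algebraMap_smul fun _ _ => rfl
  let T : ShortComplex Y.Modules := ShortComplex.mk s (cokernel.π s) (cokernel.condition s)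
  have hT : T.ShortExact :=
    { exact := ShortComplex.exact_of_g_is_cokernel _ (cokernelIsCokernel s) }
  let ψ : Y.presheaf.stalk y →ₗ[Y.presheaf.stalk y] (cokernel s).presheaf.stalk y :=
    (H06Mod.stalkLin (cokernel.π s) y) ∘ₗ LinearMap.toSpanSingleton _ _ e
  have hψ : Function.Surjective ψ := (H06Mod.stalk_surjective T hT y).comp fun v => he.2 v
  have hker : LinearMap.ker ψ ≤ Ideal.span {a} := fun r hr => by
    obtain ⟨b, hb'⟩ := (H06Mod.stalk_exact T hT y (r • e)).1 hr
    obtain ⟨U, hU, b, rfl⟩ := (Coh.structureModule Y).presheaf.exists_germ_eq b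
    have h2 : H06Mod.stalkLin s y ((Coh.structureModule Y).presheaf.germ U y hU b) =
        Y.presheaf.germ U y hU b • L.presheaf.germ ⊤ y trivial g := by
      rw [H06Mod.stalkLin_germ, H11Tilde.homOfGlobal_app]
      refine (H06Mod.germ_smul L U hU _ _).trans ?_
      rw [TopCat.Presheaf.germ_res_apply]
    refine Ideal.mem_span_singleton'.2 ⟨Y.presheaf.germ U y hU b, ?_⟩
    refine he.1 (show (Y.presheaf.germ U y hU b * a) • e = r • e from ?_)
    rw [← hb', mul_smul, ← hg]
    exact h2.symm
  have h2 : (m : ℕ∞) ≤ Module.length (Y.presheaf.stalk y) (H25Par.Stk k (cokernel s) y) := by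
    refine hm.trans ?_
    refine (Module.length_le_of_surjective (Submodule.factor hker) (Submodule.factor_surjective hker)).trans ?_
    exact (Module.length_le_of_injective (ψ.quotKerEquivOfSurjective hψ).toLinearMap
      (ψ.quotKerEquivOfSurjective hψ).injective)
  have h3 : m ≤ Module.finrank k (H25Par.Stk k (cokernel s) y) := by
    exact_mod_cast h2.trans (length_le_finrank k (R := Y.presheaf.stalk y) (H25Par.Stk k (cokernel s) y))
  rw [H29RR.deg_def]
  omega

end Groth.Agent.H11Curve
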