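import Mathlib
import Groth.Agent.H17.Dim
import Groth.Agent.H29Curve.Topology

/-!
# Finite type schemes over a field whose closed points have one-dimensional local rings
-/

set_option autoImplicit false
universe u
open AlgebraicGeometry CategoryTheory TopologicalSpace

namespace Groth.Agent.H11Curve

variable {k : Type u} [Field k] {X : Scheme.{u}}

attribute [local instance] specializationOrder

/-- Every point specialises to a closed point, on a quasi-compact scheme. -/
theorem exists_closed_specializes [CompactSpace X] (x : X) :
    ∃ c : X, x ⤳ c ∧ IsClosed ({c} : Set X) := by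
  obtain ⟨c, hc, hcc⟩ := IsClosed.exists_closed_singleton (isClosed_closure (s := ({x} : Set X)))
    (Set.singleton_nonempty x).closure
  exact ⟨c, specializes_iff_mem_closure.2 hc, hcc⟩

theorem coheight_le_one [CompactSpace X]
    (h : ∀ x : X, IsClosed ({x} : Set X) → ringKrullDim (X.presheaf.stalk x) ≤ 1) (x : X) :
    Order.coheight x ≤ 1 := by
  obtain ⟨c, hxc, hc⟩ := exists_closed_specializes x
  have h1 := h c hc
  rw [ringKrullDim_stalk_eq_coheight] at h1
  exact (Order.coheight_anti (show c ≤ x from hxc)).trans (WithBot.coe_le_coe.1 h1)

/-- If all closed points have local rings of dimension at most one, the space has dimension at most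
one. -/
theorem topologicalKrullDim_le_one [CompactSpace X]
    (h : ∀ x : X, IsClosed ({x} : Set X) → ringKrullDim (X.presheaf.stalk x) ≤ 1) :
    topologicalKrullDim X ≤ 1 := by
  rw [H17.topologicalKrullDim_eq_krullDim_specialization]
  rcases isEmpty_or_nonempty X with hX | hX
  · rw [Order.krullDim_eq_bot]; exact bot_le
  rw [Order.krullDim_eq_iSup_coheight_of_nonempty]
  exact WithBot.coe_le_coe.2 (iSup_le fun x => coheight_le_one h x)

/-- A point with one-dimensional local ring has a generisation other than itself. -/
theorem exists_ne_specializes {x : X} (h : ringKrullDim (X.presheaf.stalk x) = 1) :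
    ∃ y : X, y ≠ x ∧ y ⤳ x := by
  by_contra hne
  push Not at hne
  have h0 : Order.coheight x = 0 := Order.coheight_eq_zero.2 fun y hy => by
    have : y = x := by
      by_contra hyx
      exact hne y hyx hy
    exact this ▸ le_rfl
  rw [ringKrullDim_stalk_eq_coheight, h0] at h
  exact zero_ne_one (WithBot.coe_inj.1 h)

/-- On an irreducible such scheme the generic point is not closed. -/
theorem genericPoint_not_isClosed [IrreducibleSpace X]
    (h : ∀ x : X, IsClosed ({x} : Set X) → ringKrullDim (X.presheaf.stalk x) = 1) :
    ¬ IsClosed ({genericPoint X} : Set X) := fun hc => by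
  obtain ⟨y, hy, hyx⟩ := exists_ne_specializes (h _ hc)
  exact hy (hyx.antisymm ((genericPoint_spec X).specializes trivial)).eq

end Groth.Agent.H11Curve
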